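import Mathlib

/-!
# Freeness of semilinear actions

If a finite group `H` acts semilinearly on a module over a reduced artinian commutative algebra
`E`, and no nontrivial element fixes a residue field pointwise, then the module is free over `H`
(normal basis plus descent).
-/

namespace Cfsg.Agent.FrobFree

/-- `U` is a free `H`-submodule: some `W ≤ U` has translates forming a direct decomposition. -/
def FreeOn {k V H : Type*} [Field k] [AddCommGroup V] [Module k V] [Group H] [Fintype H]
    (σ : H →* Module.End k V) (U : Submodule k V) : Prop :=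
  ∃ W ≤ U, (∀ u ∈ U, ∃ f : H → V, (∀ h, f h ∈ W) ∧ ∑ h, σ h (f h) = u) ∧
    ∀ f : H → V, (∀ h, f h ∈ W) → ∑ h, σ h (f h) = 0 → f = 0

section FreeOn

variable {k V H : Type*} [Field k] [AddCommGroup V] [Module k V] [Group H] [Fintype H]
  {σ : H →* Module.End k V}

theorem freeOn_bot : FreeOn σ ⊥ :=
  ⟨⊥, le_rfl, fun u hu => ⟨0, fun _ => Submodule.zero_mem _, by
    rw [(Submodule.mem_bot k).mp hu]; simp⟩, fun f hf _ => funext fun h => (Submodule.mem_bot k).mp (hf h)⟩

theorem freeOn_sup {U₁ U₂ : Submodule k V} (hd : U₁ ⊓ U₂ = ⊥)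
    (hi₁ : ∀ h, ∀ u ∈ U₁, σ h u ∈ U₁) (hi₂ : ∀ h, ∀ u ∈ U₂, σ h u ∈ U₂)
    (h₁ : FreeOn σ U₁) (h₂ : FreeOn σ U₂) : FreeOn σ (U₁ ⊔ U₂) := by
  obtain ⟨W₁, hW₁, he₁, hu₁⟩ := h₁
  obtain ⟨W₂, hW₂, he₂, hu₂⟩ := h₂
  refine ⟨W₁ ⊔ W₂, sup_le_sup hW₁ hW₂, fun u hu => ?_, fun f hf h0 => ?_⟩
  · obtain ⟨a, ha, b, hb, rfl⟩ := Submodule.mem_sup.mp hu
    obtain ⟨f, hf, rfl⟩ := he₁ a ha
    obtain ⟨g, hg, rfl⟩ := he₂ b hb
    exact ⟨f + g, fun h => Submodule.add_mem_sup (hf h) (hg h),
      by simp [map_add, Finset.sum_add_distrib]⟩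
  · choose a ha b hb hab using fun h => Submodule.mem_sup.mp (hf h)
    have hsum : ∑ h, σ h (a h) + ∑ h, σ h (b h) = 0 := by
      rw [← Finset.sum_add_distrib, ← h0]
      exact Finset.sum_congr rfl fun h _ => by rw [← map_add, hab h]
    have hA : ∑ h, σ h (a h) ∈ U₁ := Submodule.sum_mem _ fun h _ => hi₁ h _ (hW₁ (ha h))
    have hB : ∑ h, σ h (b h) ∈ U₂ := Submodule.sum_mem _ fun h _ => hi₂ h _ (hW₂ (hb h))
    have hA0 : ∑ h, σ h (a h) = 0 := by
      have hm : ∑ h, σ h (a h) ∈ U₁ ⊓ U₂ :=
        ⟨hA, by rw [eq_neg_of_add_eq_zero_left hsum]; exact U₂.neg_mem hB⟩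
      rwa [hd, Submodule.mem_bot] at hm
    rw [hA0, zero_add] at hsum
    funext h
    rw [← hab h, hu₁ a ha hA0, hu₂ b hb hsum]
    simp

/-- Transport from an invariant subspace. -/
theorem freeOn_of_restrict (U : Submodule k V) (τ : H →* Module.End k U)
    (hτ : ∀ h (u : U), (τ h u : V) = σ h u) (hfree : FreeOn τ ⊤) : FreeOn σ U := by
  obtain ⟨W, -, he, hu⟩ := hfree
  refine ⟨W.map U.subtype, Submodule.map_subtype_le _ _, fun u huU => ?_, fun f hf h0 => ?_⟩
  · obtain ⟨f, hf, hfu⟩ := he ⟨u, huU⟩ trivial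
    refine ⟨fun h => (f h : V), fun h => ⟨f h, hf h, rfl⟩, ?_⟩
    have := congrArg Subtype.val hfu
    simp only [AddSubmonoidClass.coe_finsetSum, hτ] at this
    exact this
  · choose g hg hgf using hf
    have h0' : ∑ h, τ h (g h) = 0 := Subtype.ext (by
      simp only [AddSubmonoidClass.coe_finsetSum, hτ, ZeroMemClass.coe_zero]
      rw [← h0]
      exact Finset.sum_congr rfl fun h _ => by rw [← hgf h]; rfl)
    funext h
    rw [← hgf h, hu g hg h0']
    rfl

end FreeOn

/-- The conjugates of a normal element are independent in the matrix sense. -/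
theorem exists_normal_field {L D : Type*} [Field L] [Group D] [Fintype D] (ψ : D →* (L ≃+* L))
    (hψ : Function.Injective ψ) :
    ∃ c : L, ∀ y : D → L, (∀ δ, ∑ e, ψ (δ * e) c * y e = 0) → y = 0 := by
  classical
  letI : MulSemiringAction D L :=
    { smul := fun d x => ψ d x
      one_smul := fun x => by show ψ 1 x = x; rw [map_one]; rfl
      mul_smul := fun d e x => by show ψ (d * e) x = ψ d (ψ e x); rw [map_mul]; rfl
      smul_zero := fun d => map_zero (ψ d)
      smul_add := fun d x y => map_add (ψ d) x y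
      smul_one := fun d => map_one (ψ d)
      smul_mul := fun d x y => map_mul (ψ d) x y }
  haveI : FaithfulSMul D L := ⟨fun {a b} h => hψ (RingEquiv.ext h)⟩
  let e₀ := FixedPoints.toAlgAutMulEquiv D L
  obtain ⟨c, hc⟩ := exists_linearIndependent_algEquiv_apply (FixedPoints.subfield D L) L
  have hli : LinearIndependent (FixedPoints.subfield D L) (fun e : D => e • c) :=
    hc.comp e₀ e₀.injective
  have hspan := hli.span_eq_top_of_card_eq_finrank' (FixedPoints.finrank_eq_card D L).symm
  refine ⟨c, fun y hy => ?_⟩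
  set A : Matrix D D L := Matrix.of fun δ e => (δ * e) • c with hA
  have hdet : A.det ≠ 0 := by
    intro hdet
    rw [← Matrix.det_transpose] at hdet
    obtain ⟨z, hz, hz0⟩ := Matrix.exists_mulVec_eq_zero_iff.mpr hdet
    let F : L →ₗ[FixedPoints.subfield D L] L :=
      ∑ δ, z δ • ((e₀ δ).toAlgHom.toLinearMap)
    have hF : F = 0 := by
      apply LinearMap.ext_on_range hspan
      intro e
      have := congrFun hz0 e
      simp only [Matrix.mulVec, dotProduct, Matrix.transpose_apply, hA, Matrix.of_apply,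
        Pi.zero_apply] at this
      simp only [F, LinearMap.sum_apply, LinearMap.smul_apply, smul_eq_mul, LinearMap.zero_apply]
      rw [← this]
      exact Finset.sum_congr rfl fun δ _ => by
        rw [mul_comm, mul_smul]
        rfl
    apply hz
    have hinj : Function.Injective (fun δ : D => ((e₀ δ).toAlgHom)) := fun a b h =>
      e₀.injective (AlgEquiv.ext fun x => DFunLike.congr_fun h x)
    have hind := (linearIndependent_toLinearMap (FixedPoints.subfield D L) L L).comp _ hinj
    exact funext (Fintype.linearIndependent_iff.mp hind z hF)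
  exact Matrix.eq_zero_of_mulVec_eq_zero hdet (funext fun δ => by
    simp only [Matrix.mulVec, dotProduct, hA, Matrix.of_apply, Pi.zero_apply]
    exact hy δ)

section Semilinear

variable {E H : Type*} [CommRing E] [Group H] [Fintype H]

omit [Fintype H] in
theorem map_mul_apply (φ : H →* (E ≃+* E)) (a b : H) (x : E) : φ (a * b) x = φ a (φ b x) := by
  rw [map_mul]; rfl

omit [Fintype H] in
theorem map_one_apply (φ : H →* (E ≃+* E)) (x : E) : φ 1 x = x := by
  rw [map_one]; rfl

/-- A normal element in a reduced artinian ring. -/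
theorem exists_unit_normal [IsArtinianRing E] [IsReduced E] [DecidableEq H] (φ : H →* (E ≃+* E))
    (hfaith : ∀ m : Ideal E, m.IsMaximal → ∀ h, (∀ x, φ h x - x ∈ m) → h = 1) :
    ∃ b : E, IsUnit (Matrix.of fun r s => φ (r * s) b).det := by
  classical
  -- the orbit relation on maximal ideals
  let rel : MaximalSpectrum E → MaximalSpectrum E → Prop :=
    fun m m' => ∃ t : H, ∀ y, φ t y ∈ m.asIdeal ↔ y ∈ m'.asIdeal
  have heq : Equivalence rel := by
    refine ⟨fun m => ⟨1, fun y => by rw [map_one]; rfl⟩, ?_, ?_⟩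
    · rintro m m' ⟨t, ht⟩
      refine ⟨t⁻¹, fun y => ?_⟩
      rw [← ht, ← map_mul_apply, mul_inv_cancel, map_one_apply]
    · rintro m m' m'' ⟨t, ht⟩ ⟨u, hu⟩
      refine ⟨t * u, fun y => ?_⟩
      rw [map_mul_apply, ht, hu]
  let S : Setoid (MaximalSpectrum E) := ⟨rel, heq⟩
  let rep : MaximalSpectrum E → MaximalSpectrum E := fun m => (Quotient.mk S m).out
  let D : MaximalSpectrum E → Subgroup H := fun m =>
    { carrier := {h | ∀ y, φ h y ∈ m.asIdeal ↔ y ∈ m.asIdeal}
      one_mem' := fun y => by rw [map_one]; rfl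
      mul_mem' := fun {a b} ha hb y => by rw [map_mul_apply, ha, hb]
      inv_mem' := fun {a} ha y => by
        rw [← ha, ← map_mul_apply, mul_inv_cancel, map_one_apply] }
  have hψ : ∀ m : MaximalSpectrum E, ∃ c : E, ∀ Y : D m → E,
      (∀ δ : D m, ∑ e : D m, φ ((δ * e : D m) : H) c * Y e ∈ m.asIdeal) →
        ∀ e, Y e ∈ m.asIdeal := by
    intro m
    haveI := m.isMaximal
    letI : Field (E ⧸ m.asIdeal) := Ideal.Quotient.field m.asIdeal
    have hmap : ∀ d : D m, m.asIdeal = m.asIdeal.map (φ (d : H) : E →+* E) := fun d => by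
      ext y
      rw [Ideal.mem_map_iff_of_surjective (φ (d : H) : E →+* E) (φ (d : H)).surjective]
      constructor
      · intro hy
        exact ⟨(φ (d : H)).symm y, (d.2 _).mp (by rwa [RingEquiv.apply_symm_apply]),
          (φ (d : H)).apply_symm_apply y⟩
      · rintro ⟨x, hx, rfl⟩
        exact (d.2 x).mpr hx
    let ψ : D m →* ((E ⧸ m.asIdeal) ≃+* (E ⧸ m.asIdeal)) :=
      { toFun := fun d => Ideal.quotientEquiv m.asIdeal m.asIdeal (φ (d : H)) (hmap d)
        map_one' := RingEquiv.ext fun x => by
          obtain ⟨x, rfl⟩ := Ideal.Quotient.mk_surjective x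
          simp
        map_mul' := fun a b => RingEquiv.ext fun x => by
          obtain ⟨x, rfl⟩ := Ideal.Quotient.mk_surjective x
          simp }
    have hinj : Function.Injective ψ := by
      refine (injective_iff_map_eq_one ψ).mpr fun d hd => Subtype.ext ?_
      refine hfaith m.asIdeal m.isMaximal _ fun x => ?_
      rw [← Ideal.Quotient.eq]
      exact RingEquiv.ext_iff.mp hd (Ideal.Quotient.mk m.asIdeal x)
    obtain ⟨c, hc⟩ := exists_normal_field ψ hinj
    obtain ⟨c, rfl⟩ := Ideal.Quotient.mk_surjective c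
    refine ⟨c, fun Y hY e => Ideal.Quotient.eq_zero_iff_mem.mp ?_⟩
    refine congrFun (hc (fun e => Ideal.Quotient.mk m.asIdeal (Y e)) fun δ => ?_) e
    rw [← Ideal.Quotient.eq_zero_iff_mem.mpr (hY δ), map_sum]
    exact Finset.sum_congr rfl fun e _ => by rw [map_mul (Ideal.Quotient.mk m.asIdeal)]; rfl
  choose c hc using hψ
  let pr := IsArtinianRing.equivPi E
  obtain ⟨b, hb⟩ := pr.surjective fun m =>
    if rep m = m then Ideal.Quotient.mk m.asIdeal (c m) else 0
  have hbrep : ∀ m, rep m = m → b - c m ∈ m.asIdeal := by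
    intro m hm
    rw [← Ideal.Quotient.eq]
    have := congrFun hb m
    rw [if_pos hm] at this
    exact (IsArtinianRing.equivPi_apply E b m).symm.trans this
  have hb0 : ∀ m, rep m ≠ m → b ∈ m.asIdeal := by
    intro m hm
    rw [← Ideal.Quotient.eq_zero_iff_mem]
    have := congrFun hb m
    rw [if_neg hm] at this
    exact (IsArtinianRing.equivPi_apply E b m).symm.trans this
  -- independence at representatives
  have hP : ∀ m, rep m = m → ∀ X : H → E, (∀ r, ∑ s, φ (r * s) b * X s ∈ m.asIdeal) →
      ∀ s, X s ∈ m.asIdeal := by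
    intro m hm X hX s
    have hout : ∀ g : H, g ∉ D m → φ g b ∈ m.asIdeal := by
      intro g hg
      let m' : MaximalSpectrum E := ⟨m.asIdeal.comap (φ g : E →+* E), by
        haveI := m.isMaximal
        exact Ideal.comap_isMaximal_of_surjective _ (φ g).surjective⟩
      have hr : rel m m' := ⟨g, fun y => Iff.rfl⟩
      have hne : rep m' ≠ m' := by
        intro h
        have : rep m' = rep m := congrArg Quotient.out (Quotient.sound (s := S) hr).symm
        rw [h, hm] at this
        refine hg fun y => ?_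
        conv_rhs => rw [← this]
        exact Iff.rfl
      exact hb0 m' hne
    have key := hc m (fun e => X (s * e)) (fun δ => ?_) 1
    · simpa using key
    have h1 := hX ((δ : H) * s⁻¹)
    rw [← Equiv.sum_comp (Equiv.mulLeft s)] at h1
    rw [← Fintype.sum_subtype_add_sum_subtype (fun g : H => g ∈ D m)] at h1
    have h2 : ∑ g : {g : H // g ∉ D m},
        φ ((δ : H) * s⁻¹ * Equiv.mulLeft s g) b * X (Equiv.mulLeft s g) ∈ m.asIdeal := by
      refine Ideal.sum_mem _ fun g _ => m.asIdeal.mul_mem_right _ (hout _ ?_)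
      intro hmem
      apply g.2
      have := (D m).mul_mem ((D m).inv_mem δ.2) hmem
      simpa [mul_assoc] using this
    have h3 := (Submodule.add_mem_iff_left _ h2).mp h1
    have h4 : ∑ e : D m, φ ((δ * e : D m) : H) (b - c m) * X (s * e) ∈ m.asIdeal :=
      Ideal.sum_mem _ fun e _ => m.asIdeal.mul_mem_right _ (((δ * e : D m).2 _).mpr (hbrep m hm))
    have h5 := Ideal.sub_mem _ h3 h4
    convert h5 using 1
    rw [← Finset.sum_sub_distrib]
    refine Finset.sum_congr rfl fun e _ => ?_
    simp [mul_assoc, sub_mul]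
  refine ⟨b, ?_⟩
  by_contra hu
  obtain ⟨I, hI, hdet⟩ := Ideal.exists_le_maximal _
    (mt Ideal.span_singleton_eq_top.mp hu)
  replace hdet := hdet (Ideal.mem_span_singleton_self _)
  set M : Matrix H H E := Matrix.of fun r s => φ (r * s) b with hM
  letI : Field (E ⧸ I) := Ideal.Quotient.field I
  have hd0 : ((Ideal.Quotient.mk I).mapMatrix M).det = 0 := by
    rw [← RingHom.map_det]
    exact Ideal.Quotient.eq_zero_iff_mem.mpr hdet
  obtain ⟨x, hx, hx0⟩ := Matrix.exists_mulVec_eq_zero_iff.mpr hd0
  apply hx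
  choose X hX using fun s => Ideal.Quotient.mk_surjective (x s)
  let mI : MaximalSpectrum E := ⟨I, hI⟩
  obtain ⟨t, ht⟩ : rel (rep mI) mI := Quotient.exact (Quotient.out_eq (Quotient.mk S mI))
  have hrr : rep (rep mI) = rep mI := congrArg Quotient.out (Quotient.out_eq (Quotient.mk S mI))
  funext s
  have := hP (rep mI) hrr (fun s => φ t (X s)) (fun r => ?_) s
  · rw [Pi.zero_apply, ← hX s, Ideal.Quotient.eq_zero_iff_mem]
    exact (ht _).mp this
  have h1 : ∑ s, φ (t⁻¹ * r * s) b * X s ∈ I := by
    rw [← Ideal.Quotient.eq_zero_iff_mem, map_sum]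
    have := congrFun hx0 (t⁻¹ * r)
    rw [Pi.zero_apply] at this
    rw [← this]
    simp only [Matrix.mulVec, dotProduct, RingHom.mapMatrix_apply, Matrix.map_apply, hM,
      Matrix.of_apply, map_mul, hX]
  have h2 := (ht _).mpr h1
  rw [map_sum] at h2
  convert h2 using 1
  refine Finset.sum_congr rfl fun s _ => ?_
  rw [map_mul (φ t), ← map_mul_apply]
  simp [← mul_assoc]

variable {k V : Type*} [Field k] [AddCommGroup V] [Module k V] [Algebra k E] [Module E V]
  [IsScalarTower k E V]

/-- A semilinear action without residually trivial elements is free. -/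
theorem freeOn_semilinear [IsArtinianRing E] [IsReduced E] (φ : H →* (E ≃+* E))
    (σ : H →* Module.End k V) (hσ : ∀ (h : H) (y : E) (v : V), σ h (y • v) = φ h y • σ h v)
    (hfaith : ∀ m : Ideal E, m.IsMaximal → ∀ h, (∀ x, φ h x - x ∈ m) → h = 1) :
    FreeOn σ ⊤ := by
  classical
  obtain ⟨b, hdet⟩ := exists_unit_normal φ hfaith
  set M : Matrix H H E := Matrix.of fun r s => φ (r * s) b with hM
  set N := M⁻¹ with hN
  have hMN : M * N = 1 := Matrix.mul_nonsing_inv M hdet
  have hNM : N * M = 1 := Matrix.nonsing_inv_mul M hdet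
  let Fx : Submodule k V :=
    { carrier := {v | ∀ h, σ h v = v}
      zero_mem' := fun h => map_zero _
      add_mem' := fun {x y} hx hy h => by rw [map_add, hx h, hy h]
      smul_mem' := fun a x hx h => by rw [map_smul, hx h] }
  refine ⟨Fx.map (Algebra.lsmul k k V b), le_top, fun v _ => ?_, fun f hf h0 => ?_⟩
  · set u : H → V := fun s => ∑ r, N s r • σ r v with hu
    have hfix : ∀ s, u s ∈ Fx := by
      intro s t
      have e1 : ∀ r, φ t (N s r) = N s (t * r) := by
        let M' : Matrix H H E := Matrix.of fun r s => M (t * r) s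
        let N₁ : Matrix H H E := Matrix.of fun s r => φ t (N s r)
        let N₂ : Matrix H H E := Matrix.of fun s r => N s (t * r)
        have a1 : N₁ * M' = 1 := by
          ext i j
          have := congrArg (φ t) (congrFun (congrFun hNM i) j)
          rw [Matrix.mul_apply, map_sum, Matrix.one_apply] at this
          rw [Matrix.mul_apply, Matrix.one_apply]
          convert this using 1
          · refine Finset.sum_congr rfl fun r _ => ?_
            simp only [N₁, M', hM, Matrix.of_apply, map_mul (φ t), ← map_mul_apply, mul_assoc]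
          · split <;> simp
        have a2 : N₂ * M' = 1 := by
          ext i j
          rw [Matrix.mul_apply, ← congrFun (congrFun hNM i) j, Matrix.mul_apply]
          exact Equiv.sum_comp (Equiv.mulLeft t) (fun r => N i r * M r j)
        have a3 : M' * N₂ = 1 := mul_eq_one_comm.mp a2
        have : N₁ = N₂ := left_inv_eq_right_inv a1 a3
        exact fun r => congrFun (congrFun this s) r
      show σ t (∑ r, N s r • σ r v) = ∑ r, N s r • σ r v
      rw [map_sum]
      refine Eq.trans ?_ (Equiv.sum_comp (Equiv.mulLeft t) (fun r => N s r • σ r v))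
      refine Finset.sum_congr rfl fun r _ => ?_
      rw [hσ, e1, ← Module.End.mul_apply, ← map_mul]
      rfl
    refine ⟨fun s => b • u s, fun s => ⟨u s, hfix s, rfl⟩, ?_⟩
    calc ∑ s, σ s (b • u s) = ∑ s, M 1 s • u s := by
          refine Finset.sum_congr rfl fun s _ => ?_
          rw [hσ, hfix s s, hM, Matrix.of_apply, one_mul]
      _ = ∑ r, (∑ s, M 1 s * N s r) • σ r v := by
          simp only [hu, Finset.smul_sum, smul_smul]
          rw [Finset.sum_comm]
          exact Finset.sum_congr rfl fun r _ => (Finset.sum_smul).symm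
      _ = v := by
          rw [Finset.sum_eq_single (1 : H)]
          · rw [← Matrix.mul_apply, hMN, Matrix.one_apply_eq, one_smul, map_one]
            rfl
          · intro r _ hr
            rw [← Matrix.mul_apply, hMN, Matrix.one_apply_ne (Ne.symm hr), zero_smul]
          · simp
  · choose u hu hfu using hf
    have hsys : ∀ r, ∑ s, M r s • u s = 0 := by
      intro r
      have h1 := congrArg (σ r) h0
      rw [map_sum, map_zero] at h1
      rw [← h1]
      refine Finset.sum_congr rfl fun s _ => ?_
      rw [← hfu s, ← Module.End.mul_apply, ← map_mul]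
      show M r s • u s = σ (r * s) (b • u s)
      rw [hσ, hu s (r * s), hM, Matrix.of_apply]
    funext h
    have hu0 : u h = 0 := by
      calc u h = ∑ s, (∑ r, N h r * M r s) • u s := by
            rw [Finset.sum_eq_single h]
            · rw [← Matrix.mul_apply, hNM, Matrix.one_apply_eq, one_smul]
            · intro s _ hs
              rw [← Matrix.mul_apply, hNM, Matrix.one_apply_ne (Ne.symm hs), zero_smul]
            · simp
        _ = ∑ r, N h r • ∑ s, M r s • u s := by
            simp only [Finset.smul_sum, smul_smul, Finset.sum_smul]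
            exact Finset.sum_comm
        _ = 0 := by simp [hsys]
    rw [← hfu h, hu0]
    simp

end Semilinear

end Cfsg.Agent.FrobFree
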